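import Mathlib

/-!
Sylow 2-subgroups of symmetric groups and of alternating groups of degree at least 6 are
self-normalising.
-/

set_option autoImplicit false

namespace CfsgLib.AltSylowTwo

open Equiv

variable {m r : ℕ}

/-- The permutation of `m` pairs and `r` further points moving the pairs by `π` and flipping them by `e`. -/
def mk (π : Perm (Fin m)) (e : Fin m → Bool) : Perm (Fin m × Bool ⊕ Fin r) where
  toFun := Sum.map (fun a => (π a.1, xor (e a.1) a.2)) id
  invFun := Sum.map (fun a => (π.symm a.1, xor (e (π.symm a.1)) a.2)) id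
  left_inv := by rintro (⟨i, b⟩ | k) <;> simp
  right_inv := by rintro (⟨i, b⟩ | k) <;> simp

@[simp] theorem mk_inl (π : Perm (Fin m)) (e : Fin m → Bool) (i : Fin m) (b : Bool) :
    mk (r := r) π e (Sum.inl (i, b)) = Sum.inl (π i, xor (e i) b) := rfl

@[simp] theorem mk_inr (π : Perm (Fin m)) (e : Fin m → Bool) (k : Fin r) :
    mk π e (Sum.inr k) = Sum.inr k := rfl

theorem mk_mul (π π' : Perm (Fin m)) (e e' : Fin m → Bool) :
    mk (r := r) π e * mk π' e' = mk (π * π') (fun i => xor (e (π' i)) (e' i)) := by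
  ext (⟨i, b⟩ | k) <;> simp [Perm.mul_apply]

theorem mk_one : mk (r := r) (1 : Perm (Fin m)) (fun _ => false) = 1 := by
  ext (⟨i, b⟩ | k) <;> simp

theorem mk_inj {π π' : Perm (Fin m)} {e e' : Fin m → Bool} (h : mk (r := r) π e = mk π' e') :
    π = π' ∧ e = e' := by
  have h1 : ∀ i : Fin m, π i = π' i ∧ e i = e' i := fun i => by
    have := DFunLike.congr_fun h (Sum.inl (i, false))
    simpa [Prod.ext_iff] using this
  exact ⟨Equiv.ext fun i => (h1 i).1, funext fun i => (h1 i).2⟩

/-- The flip of one pair. -/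
theorem mk_single (i : Fin m) :
    mk (r := r) 1 (fun j => decide (j = i)) = Equiv.swap (Sum.inl (i, false)) (Sum.inl (i, true)) := by
  ext (⟨j, b⟩ | k)
  · by_cases h : j = i
    · subst h; cases b <;> simp
    · simp [h, Equiv.swap_apply_of_ne_of_ne]
  · simp [Equiv.swap_apply_of_ne_of_ne]

/-- The Sylow 2-subgroup built from one of the permutations of the pairs. -/
def pairs (P₀ : Subgroup (Perm (Fin m))) : Subgroup (Perm (Fin m × Bool ⊕ Fin r)) where
  carrier := {c | ∃ π ∈ P₀, ∃ e : Fin m → Bool, c = mk π e}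
  one_mem' := ⟨1, one_mem _, fun _ => false, mk_one.symm⟩
  mul_mem' := by
    rintro _ _ ⟨π, hπ, e, rfl⟩ ⟨π', hπ', e', rfl⟩
    exact ⟨π * π', mul_mem hπ hπ', _, mk_mul π π' e e'⟩
  inv_mem' := by
    rintro _ ⟨π, hπ, e, rfl⟩
    refine ⟨π⁻¹, inv_mem hπ, fun i => e (π⁻¹ i), (eq_inv_of_mul_eq_one_left ?_).symm⟩
    rw [mk_mul, inv_mul_cancel]
    simp [← mk_one]

theorem mem_pairs {P₀ : Subgroup (Perm (Fin m))} {π : Perm (Fin m)} {e : Fin m → Bool} :
    mk (r := r) π e ∈ pairs P₀ ↔ π ∈ P₀ :=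
  ⟨fun ⟨π', h', e', he⟩ => (mk_inj he).1 ▸ h', fun h => ⟨π, h, e, rfl⟩⟩

theorem card_pairs (P₀ : Subgroup (Perm (Fin m))) :
    Nat.card (pairs (r := r) P₀) = 2 ^ m * Nat.card P₀ := by
  have hf : Function.Bijective (fun a : P₀ × (Fin m → Bool) => (⟨mk a.1 a.2, mem_pairs.2 a.1.2⟩ : pairs (r := r) P₀)) := by
    refine ⟨fun a b h => ?_, ?_⟩
    · obtain ⟨h1, h2⟩ := mk_inj (congrArg Subtype.val h)
      exact Prod.ext (Subtype.ext h1) h2
    · rintro ⟨c, π, hπ, e, rfl⟩
      exact ⟨(⟨π, hπ⟩, e), rfl⟩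
  rw [← Nat.card_eq_of_bijective _ hf, Nat.card_prod, Nat.card_fun, mul_comm]
  simp

theorem exists_pairs_sylow (hr : r < 2) (P₀ : Sylow 2 (Perm (Fin m))) :
    ∃ P : Sylow 2 (Perm (Fin m × Bool ⊕ Fin r)), (P : Subgroup _) = pairs (r := r) (P₀ : Subgroup (Perm (Fin m))) := by
  refine ⟨Sylow.ofCard (pairs (r := r) (P₀ : Subgroup (Perm (Fin m)))) ?_, rfl⟩
  rw [card_pairs, P₀.card_eq_multiplicity, ← pow_add]
  congr 1
  rw [Nat.card_perm, Nat.card_perm]
  simp only [Nat.card_eq_fintype_card, Fintype.card_sum, Fintype.card_prod, Fintype.card_fin,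
    Fintype.card_bool]
  rw [Nat.factorization_def _ Nat.prime_two, Nat.factorization_def _ Nat.prime_two, mul_comm m 2,
    padicValNat_factorial_mul_add m hr, padicValNat_factorial_mul]
  ring

/-- An element commuting with enough flips is a flip. -/
theorem eq_flip {S : Subgroup (Perm (Fin m × Bool ⊕ Fin r))} (hr : r < 2)
    (h1 : ∀ i, ∃ e : Fin m → Bool, e i = true ∧ mk 1 e ∈ S)
    (h2 : ∀ i j, j ≠ i → ∃ e : Fin m → Bool, e i = true ∧ e j = false ∧ mk 1 e ∈ S)
    {c : Perm (Fin m × Bool ⊕ Fin r)} (hc : ∀ s ∈ S, s * c = c * s) : ∃ f, c = mk 1 f := by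
  have hiff : ∀ s ∈ S, ∀ a, s (c a) = c a ↔ s a = a := fun s hs a => by
    have h := DFunLike.congr_fun (hc s hs) a
    rw [Perm.mul_apply, Perm.mul_apply] at h
    rw [h]
    exact c.injective.eq_iff
  have hpair : ∀ i b, ∃ b', c (Sum.inl (i, b)) = Sum.inl (i, b') := by
    intro i b
    rcases hca : c (Sum.inl (i, b)) with ⟨j, b'⟩ | k
    · by_cases hji : j = i
      · exact ⟨b', by rw [hji]⟩
      · exfalso
        obtain ⟨e, hei, hej, he⟩ := h2 i j hji
        have := (hiff _ he (Sum.inl (i, b))).1 (by rw [hca]; simp [hej])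
        simp [hei] at this
    · exfalso
      obtain ⟨e, hei, he⟩ := h1 i
      have := (hiff _ he (Sum.inl (i, b))).1 (by rw [hca]; simp)
      simp [hei] at this
  choose v hv using hpair
  refine ⟨fun i => v i false, Equiv.ext ?_⟩
  rintro (⟨i, b⟩ | k)
  · rw [hv, mk_inl]
    have hne : v i true ≠ v i false := fun h => by
      have h3 := c.injective (a₁ := Sum.inl (i, true)) (a₂ := Sum.inl (i, false)) (by rw [hv, hv, h])
      simp at h3
    cases b
    · simp
    · cases hT : v i true <;> cases hF : v i false <;> simp_all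
  · rcases hck : c (Sum.inr k) with ⟨j, b⟩ | k'
    · exfalso
      obtain ⟨e, hej, he⟩ := h1 j
      have := (hiff _ he (Sum.inr k)).2 (by simp)
      rw [hck] at this
      simp [hej] at this
    · rw [mk_inr]
      congr 1
      haveI : Subsingleton (Fin r) := Fin.subsingleton_iff_le_one.2 (by omega)
      exact Subsingleton.elim _ _

/-- A permutation commuting with the flip of all pairs permutes the pairs. -/
theorem exists_eq_mk (hr : r < 2) {c : Perm (Fin m × Bool ⊕ Fin r)}
    (hc : mk 1 (fun _ => true) * c = c * mk 1 (fun _ => true)) : ∃ π e, c = mk π e := by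
  haveI : Subsingleton (Fin r) := Fin.subsingleton_iff_le_one.2 (by omega)
  have hz : ∀ a, mk 1 (fun _ => true) (c a) = c (mk 1 (fun _ => true) a) := fun a => DFunLike.congr_fun hc a
  have hinr : ∀ k, c (Sum.inr k) = Sum.inr k := by
    intro k
    have h := hz (Sum.inr k)
    rw [mk_inr] at h
    rcases hck : c (Sum.inr k) with ⟨j, b⟩ | k'
    · exfalso
      rw [hck] at h
      simp at h
    · rw [Subsingleton.elim k' k]
  have hinl : ∀ i, ∃ j b, c (Sum.inl (i, false)) = Sum.inl (j, b) := by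
    intro i
    rcases hca : c (Sum.inl (i, false)) with ⟨j, b⟩ | k
    · exact ⟨j, b, rfl⟩
    · exfalso
      have := c.injective (hca.trans (hinr k).symm)
      simp at this
  choose p e he using hinl
  have het : ∀ i, c (Sum.inl (i, true)) = Sum.inl (p i, !(e i)) := fun i => by
    have := hz (Sum.inl (i, false))
    rw [he] at this
    simpa using this.symm
  have hp : Function.Injective p := by
    intro i i' hii
    by_cases hee : e i = e i'
    · have := c.injective (a₁ := Sum.inl (i, false)) (a₂ := Sum.inl (i', false)) (by rw [he, he, hii, hee])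
      simpa using this
    · have hee' : e i = !(e i') := by cases h1 : e i <;> cases h2 : e i' <;> simp_all
      have := c.injective (a₁ := Sum.inl (i, false)) (a₂ := Sum.inl (i', true)) (by rw [he, het, hii, hee'])
      simp at this
  refine ⟨Equiv.ofBijective p (Finite.injective_iff_bijective.1 hp), e, Equiv.ext ?_⟩
  rintro (⟨i, b⟩ | k)
  · rw [mk_inl, Equiv.ofBijective_apply]
    cases b
    · simp [he]
    · simp [het]
  · rw [mk_inr, hinr]

theorem mem_normalizer_of_forall {G : Type*} [Group G] [Finite G] {H : Subgroup G} {x : G}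
    (h : ∀ y ∈ H, x * y * x⁻¹ ∈ H) : x ∈ Subgroup.normalizer (H : Set G) := by
  have heq : H.map (MulAut.conj x).toMonoidHom = H := by
    refine Subgroup.eq_of_le_of_card_ge ?_ (le_of_eq ?_)
    · rintro _ ⟨y, hy, rfl⟩; exact h y hy
    · exact (Subgroup.card_map_of_injective (MulEquiv.injective _)).symm
  rw [Subgroup.mem_normalizer_iff]
  refine fun y => ⟨h y, fun hy => ?_⟩
  obtain ⟨w, hw, hwe⟩ := heq.ge hy
  have hwy : w = y := (MulAut.conj x).injective hwe
  exact hwy ▸ hw

/-- The inductive step. -/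
theorem eq_one_of_normalizes (hr : r < 2) {P₀ : Subgroup (Perm (Fin m))}
    (hP₀ : ∀ π ∈ Subgroup.normalizer (P₀ : Set (Perm (Fin m))), Odd (orderOf π) → π = 1)
    {S : Subgroup (Perm (Fin m × Bool ⊕ Fin r))} (hS : S ≤ pairs P₀)
    (h1 : ∀ i, ∃ e : Fin m → Bool, e i = true ∧ mk 1 e ∈ S)
    (h2 : ∀ i j, j ≠ i → ∃ e : Fin m → Bool, e i = true ∧ e j = false ∧ mk 1 e ∈ S)
    (h3 : ∀ π ∈ P₀, ∃ e, mk π e ∈ S) {x : Perm (Fin m × Bool ⊕ Fin r)}
    (hx : x ∈ Subgroup.normalizer (S : Set (Perm (Fin m × Bool ⊕ Fin r)))) (hodd : Odd (orderOf x)) : x = 1 := by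
  set z : Perm (Fin m × Bool ⊕ Fin r) := mk 1 (fun _ => true) with hz
  have hzc : ∀ s ∈ S, s * z = z * s := by
    intro s hs
    obtain ⟨π, -, e, rfl⟩ := hS hs
    simp [hz, mk_mul]
  have hc : ∀ s ∈ S, s * (x * z * x⁻¹) = (x * z * x⁻¹) * s := by
    intro s hs
    have hs' : x⁻¹ * s * x ∈ S := by
      have := (Subgroup.mem_normalizer_iff.1 (inv_mem hx) s).1 hs
      simpa using this
    calc s * (x * z * x⁻¹) = x * ((x⁻¹ * s * x) * z) * x⁻¹ := by group
      _ = x * (z * (x⁻¹ * s * x)) * x⁻¹ := by rw [hzc _ hs']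
      _ = (x * z * x⁻¹) * s := by group
  obtain ⟨f, hf⟩ := eq_flip hr h1 h2 hc
  have hft : f = fun _ => true := by
    funext i
    by_contra hfi
    have hfix : ∀ b, ∃ k, x⁻¹ (Sum.inl (i, b)) = Sum.inr k := by
      intro b
      have hc1 : (x * z * x⁻¹) (Sum.inl (i, b)) = Sum.inl (i, b) := by
        rw [hf, mk_inl]; simp [Bool.eq_false_iff.2 hfi]
      have hzf : z (x⁻¹ (Sum.inl (i, b))) = x⁻¹ (Sum.inl (i, b)) := by
        apply x.injective
        simpa [Perm.mul_apply] using hc1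
      rcases hca : x⁻¹ (Sum.inl (i, b)) with ⟨j, b'⟩ | k
      · rw [hca] at hzf; simp [hz] at hzf
      · exact ⟨k, rfl⟩
    obtain ⟨k, hk⟩ := hfix false
    obtain ⟨k', hk'⟩ := hfix true
    haveI : Subsingleton (Fin r) := Fin.subsingleton_iff_le_one.2 (by omega)
    rw [Subsingleton.elim k' k] at hk'
    have := x⁻¹.injective (hk.trans hk'.symm)
    simp at this
  rw [hft, ← hz] at hf
  obtain ⟨π, e, hxe⟩ := exists_eq_mk hr (c := x) (by
    rw [← hz]
    exact (mul_inv_eq_iff_eq_mul.1 hf).symm)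
  have hpow : ∀ k : ℕ, ∃ f', x ^ k = mk (π ^ k) f' := by
    intro k
    induction k with
    | zero => exact ⟨fun _ => false, by rw [pow_zero, pow_zero, mk_one]⟩
    | succ k ih =>
      obtain ⟨f', hf'⟩ := ih
      exact ⟨_, by rw [pow_succ, hf', hxe, mk_mul, pow_succ]⟩
  have hπ1 : π = 1 := by
    refine hP₀ π (mem_normalizer_of_forall fun σ hσ => ?_) ?_
    · obtain ⟨e', he'⟩ := h3 σ hσ
      have hm := hS ((Subgroup.mem_normalizer_iff.1 hx _).1 he')
      obtain ⟨τ, hτ, f', hf'⟩ := hm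
      have h4 : x * mk σ e' = mk τ f' * x := by rw [← hf']; group
      rw [hxe, mk_mul, mk_mul] at h4
      rw [show π * σ * π⁻¹ = τ by rw [(mk_inj h4).1]; group]
      exact hτ
    · obtain ⟨f', hf'⟩ := hpow (orderOf x)
      rw [pow_orderOf_eq_one, ← mk_one] at hf'
      exact hodd.of_dvd_nat (orderOf_dvd_of_pow_eq_one (mk_inj hf').1.symm)
  have hx2 : x ^ 2 = 1 := by
    rw [hxe, hπ1, pow_two, mk_mul, ← mk_one]
    congr 1
    funext i
    simp
  have h5 : orderOf x ∣ 2 := orderOf_dvd_of_pow_eq_one hx2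
  rcases (Nat.dvd_prime Nat.prime_two).1 h5 with h6 | h6
  · exact orderOf_eq_one_iff.1 h6
  · rw [h6] at hodd; exact absurd hodd (by decide)

/-- Transport along a conjugation. -/
theorem conj_normalizes {G : Type*} [Group G] {S T : Subgroup G} {g x : G}
    (hT : ∀ y, y ∈ T ↔ g⁻¹ * y * g ∈ S) (hx : x ∈ Subgroup.normalizer (T : Set G)) :
    g⁻¹ * x * g ∈ Subgroup.normalizer (S : Set G) := by
  rw [Subgroup.mem_normalizer_iff]
  intro y
  have h1 : y ∈ S ↔ g * y * g⁻¹ ∈ T := by rw [hT]; simp [mul_assoc]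
  rw [h1, Subgroup.mem_normalizer_iff.1 hx, hT]
  simp [mul_assoc]

theorem orderOf_conj' {G : Type*} [Group G] (g x : G) : orderOf (g⁻¹ * x * g) = orderOf x := by
  have := (MulAut.conj g⁻¹).orderOf_eq x
  simpa [MulAut.conj_apply] using this

/-- No element of odd order other than `1` normalises a Sylow 2-subgroup of a symmetric group. -/
theorem eq_one_of_normalizes_perm : ∀ (n : ℕ) (P : Sylow 2 (Perm (Fin n))) (x : Perm (Fin n)),
    x ∈ Subgroup.normalizer ((P : Subgroup (Perm (Fin n))) : Set (Perm (Fin n))) → Odd (orderOf x) → x = 1 := by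
  intro n
  induction n using Nat.strong_induction_on with
  | _ n ih =>
    intro P x hx hodd
    rcases Nat.eq_zero_or_pos n with rfl | hn
    · exact Subsingleton.elim _ _
    have hr : n % 2 < 2 := Nat.mod_lt _ two_pos
    obtain ⟨P₀⟩ : Nonempty (Sylow 2 (Perm (Fin (n / 2)))) := inferInstance
    obtain ⟨Q, hQ⟩ := exists_pairs_sylow hr P₀
    obtain ⟨ε⟩ : Nonempty (Fin n ≃ Fin (n / 2) × Bool ⊕ Fin (n % 2)) := Fintype.card_eq.1 (by simp; omega)
    let E := ε.permCongrHom
    have hE : IsPGroup 2 ((P : Subgroup _).map E.toMonoidHom) := P.2.map _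
    obtain ⟨R, hR⟩ := hE.exists_le_sylow
    obtain ⟨g, hg⟩ := MulAction.exists_smul_eq (Perm (Fin (n / 2) × Bool ⊕ Fin (n % 2))) Q R
    have hmem : ∀ y, y ∈ (R : Subgroup _) ↔ g⁻¹ * y * g ∈ (Q : Subgroup _) := fun y => by
      rw [← hg, Sylow.coe_subgroup_smul, Subgroup.mem_pointwise_smul_iff_inv_smul_mem, MulAut.smul_def,
        MulAut.conj_inv_apply]
    have hPR : (P : Subgroup _).map E.toMonoidHom = (R : Subgroup _) := by
      refine Subgroup.eq_of_le_of_card_ge hR (le_of_eq ?_)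
      rw [Subgroup.card_map_of_injective E.injective, R.card_eq_multiplicity, P.card_eq_multiplicity,
        Nat.card_congr E.toEquiv]
    have hx' : E x ∈ Subgroup.normalizer ((R : Subgroup (Perm (Fin (n / 2) × Bool ⊕ Fin (n % 2)))) : Set (Perm (Fin (n / 2) × Bool ⊕ Fin (n % 2)))) := by
      rw [← hPR]
      refine mem_normalizer_of_forall ?_
      rintro _ ⟨y, hy, rfl⟩
      exact ⟨x * y * x⁻¹, (Subgroup.mem_normalizer_iff.1 hx y).1 hy, by simp⟩
    have key : g⁻¹ * E x * g = 1 := by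
      refine eq_one_of_normalizes hr (fun π h1 h2 => ih (n / 2) (Nat.div_lt_self hn one_lt_two) P₀ π h1 h2)
        hQ.le (fun i => ⟨fun j => decide (j = i), by simp, ?_⟩) (fun i j hji => ⟨fun l => decide (l = i), by simp, by simp [hji], ?_⟩)
        (fun π hπ => ⟨fun _ => false, ?_⟩) (conj_normalizes hmem hx') (by rw [orderOf_conj', MulEquiv.orderOf_eq]; exact hodd)
      all_goals rw [hQ, mem_pairs]
      all_goals first | exact one_mem _ | exact hπ
    have : E x = 1 := by
      calc E x = g * (g⁻¹ * E x * g) * g⁻¹ := by group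
        _ = 1 := by rw [key]; group
    exact E.injective (this.trans (map_one E).symm)

/-- No element of odd order other than `1` normalises a Sylow 2-subgroup of `Alt(n)`, `n ≥ 6`. -/
theorem eq_one_of_normalizes_alt {n : ℕ} (hn : 6 ≤ n) (T : Sylow 2 (alternatingGroup (Fin n)))
    (x : alternatingGroup (Fin n))
    (hx : x ∈ Subgroup.normalizer ((T : Subgroup (alternatingGroup (Fin n))) : Set (alternatingGroup (Fin n)))) (hodd : Odd (orderOf x)) :
    x = 1 := by
  have hr : n % 2 < 2 := Nat.mod_lt _ two_pos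
  obtain ⟨P₀⟩ : Nonempty (Sylow 2 (Perm (Fin (n / 2)))) := inferInstance
  obtain ⟨Q, hQ⟩ := exists_pairs_sylow hr P₀
  obtain ⟨ε⟩ : Nonempty (Fin n ≃ Fin (n / 2) × Bool ⊕ Fin (n % 2)) := Fintype.card_eq.1 (by simp; omega)
  let ψ : alternatingGroup (Fin n) →* Perm (Fin (n / 2) × Bool ⊕ Fin (n % 2)) :=
    ε.permCongrHom.toMonoidHom.comp (alternatingGroup (Fin n)).subtype
  have hψ : Function.Injective ψ := ε.permCongrHom.injective.comp Subtype.coe_injective
  have hsign : ∀ y, Perm.sign (ψ y) = 1 := fun y => by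
    show Perm.sign (ε.permCongr (y : Perm (Fin n))) = 1
    rw [Perm.sign_permCongr]
    exact y.2
  have hsurj : ∀ c, Perm.sign c = 1 → ∃ y, ψ y = c := fun c hc =>
    ⟨⟨ε.permCongrHom.symm c, by
      show Perm.sign (ε.symm.permCongr c) = 1
      rw [Perm.sign_permCongr]; exact hc⟩, ε.permCongrHom.apply_symm_apply c⟩
  obtain ⟨R, hR⟩ := (T.2.map ψ).exists_le_sylow
  obtain ⟨g, hg⟩ := MulAction.exists_smul_eq (Perm (Fin (n / 2) × Bool ⊕ Fin (n % 2))) Q R
  have hmem : ∀ y, y ∈ (R : Subgroup _) ↔ g⁻¹ * y * g ∈ (Q : Subgroup _) := fun y => by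
    rw [← hg, Sylow.coe_subgroup_smul, Subgroup.mem_pointwise_smul_iff_inv_smul_mem, MulAut.smul_def,
      MulAut.conj_inv_apply]
  set K : Subgroup (Perm (Fin (n / 2) × Bool ⊕ Fin (n % 2))) := Perm.sign.ker with hK
  have hT : (R : Subgroup _).comap ψ = (T : Subgroup _) := by
    refine T.3 (R.2.comap_of_injective ψ hψ) fun y hy => ?_
    exact hR ⟨y, hy, rfl⟩
  have hx' : ψ x ∈ Subgroup.normalizer ((((R : Subgroup (Perm (Fin (n / 2) × Bool ⊕ Fin (n % 2)))) ⊓ K : Subgroup (Perm (Fin (n / 2) × Bool ⊕ Fin (n % 2))))) : Set (Perm (Fin (n / 2) × Bool ⊕ Fin (n % 2)))) := by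
    refine mem_normalizer_of_forall fun c hc => ?_
    obtain ⟨y, rfl⟩ := hsurj c hc.2
    have hy : y ∈ (T : Subgroup _) := hT.le hc.1
    refine ⟨?_, ?_⟩
    · rw [← map_inv, ← map_mul, ← map_mul]
      exact hT.ge ((Subgroup.mem_normalizer_iff.1 hx y).1 hy)
    · rw [← map_inv, ← map_mul, ← map_mul]
      exact hsign _
  have hmemK : ∀ y, y ∈ (R : Subgroup _) ⊓ K ↔ g⁻¹ * y * g ∈ (Q : Subgroup _) ⊓ K := fun y => by
    simp only [Subgroup.mem_inf, hmem, hK, MonoidHom.mem_ker, map_mul, map_inv]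
    constructor <;> rintro ⟨h1, h2⟩ <;> refine ⟨h1, ?_⟩
    · rw [h2]; simp
    · calc Perm.sign y = Perm.sign g * ((Perm.sign g)⁻¹ * Perm.sign y * Perm.sign g) * (Perm.sign g)⁻¹ := by group
        _ = 1 := by rw [h2]; group
  have hne : ∀ i : Fin (n / 2), Perm.sign (mk (r := n % 2) 1 (fun j => decide (j = i))) = -1 := fun i => by
    rw [mk_single, Perm.sign_swap]; simp
  have hdouble : ∀ i l : Fin (n / 2), i ≠ l →
      mk 1 (fun j => decide (j = i) || decide (j = l)) ∈ ((Q : Subgroup _) ⊓ K) := by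
    intro i l hil
    have heq : mk (r := n % 2) 1 (fun j => decide (j = i) || decide (j = l)) =
        mk 1 (fun j => decide (j = i)) * mk 1 (fun j => decide (j = l)) := by
      rw [mk_mul, one_mul]
      congr 1
      funext j
      by_cases h : j = i <;> by_cases h' : j = l <;> simp_all
    refine ⟨?_, ?_⟩
    · rw [hQ]; exact mem_pairs.2 (one_mem _)
    · show Perm.sign _ = 1
      rw [heq, map_mul, hne, hne]; decide
  have hthird : ∀ i j : Fin (n / 2), ∃ l, l ≠ i ∧ l ≠ j := by
    intro i j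
    by_contra hcon
    push_neg at hcon
    have h3 : (Finset.univ : Finset (Fin (n / 2))) ⊆ {i, j} := fun l _ => by
      simp only [Finset.mem_insert, Finset.mem_singleton]
      by_cases h : l = i
      · exact Or.inl h
      · exact Or.inr (hcon l h)
    have := (Finset.card_le_card h3).trans Finset.card_le_two
    simp at this
    omega
  have key : g⁻¹ * ψ x * g = 1 := by
    refine eq_one_of_normalizes hr (fun π h1 h2 => eq_one_of_normalizes_perm _ P₀ π h1 h2)
      (inf_le_left.trans hQ.le) (fun i => ?_) (fun i j hji => ?_) (fun π hπ => ?_)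
      (conj_normalizes hmemK hx') (by rw [orderOf_conj', orderOf_injective ψ hψ]; exact hodd)
    · obtain ⟨l, hl, -⟩ := hthird i i
      exact ⟨_, by simp, hdouble i l hl.symm⟩
    · obtain ⟨l, hl, hlj⟩ := hthird i j
      exact ⟨_, by simp, by simp [hji, hlj.symm], hdouble i l hl.symm⟩
    · rcases Int.units_eq_one_or (Perm.sign (mk (r := n % 2) π (fun _ => false))) with h | h
      · exact ⟨_, by rw [hQ]; exact mem_pairs.2 hπ, h⟩
      · let i : Fin (n / 2) := ⟨0, by omega⟩
        refine ⟨fun j => decide (j = i), ?_, ?_⟩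
        · rw [hQ]; exact mem_pairs.2 hπ
        · have heq : mk (r := n % 2) π (fun j => decide (j = i)) =
              mk π (fun _ => false) * mk 1 (fun j => decide (j = i)) := by
            rw [mk_mul, mul_one]
            congr 1
            funext j; simp
          show Perm.sign _ = 1
          rw [heq, map_mul, h, hne]; decide
  have h1 : ψ x = 1 := by
    calc ψ x = g * (g⁻¹ * ψ x * g) * g⁻¹ := by group
      _ = 1 := by rw [key]; group
  exact hψ (h1.trans (map_one ψ).symm)

/-- The Sylow 2-subgroups of `Alt(n)`, `n ≥ 6`, are self-normalising. -/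
theorem normalizer_sylow_alt {n : ℕ} (hn : 6 ≤ n) (T : Sylow 2 (alternatingGroup (Fin n))) :
    Subgroup.normalizer ((T : Subgroup (alternatingGroup (Fin n))) : Set (alternatingGroup (Fin n))) = (T : Subgroup _) := by
  refine le_antisymm (fun x hx => ?_) Subgroup.le_normalizer
  obtain ⟨k, o, ho, hko⟩ := Nat.exists_eq_pow_mul_and_not_dvd (orderOf_pos x).ne' 2 (by norm_num)
  have h1 : x ^ 2 ^ k = 1 := by
    refine eq_one_of_normalizes_alt hn T _ (pow_mem hx _) ?_
    rw [orderOf_pow' x (by positivity), hko, Nat.gcd_mul_right_left, Nat.mul_div_cancel_left _ (by positivity)]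
    exact Nat.not_even_iff_odd.1 fun he => ho he.two_dvd
  have hpx : IsPGroup 2 (Subgroup.zpowers x) := by
    obtain ⟨j, -, hj⟩ := (Nat.dvd_prime_pow Nat.prime_two).1 (orderOf_dvd_of_pow_eq_one h1)
    exact IsPGroup.of_card (n := j) (by rw [Nat.card_zpowers, hj])
  exact (hpx.inf_normalizer_sylow T).le ⟨Subgroup.mem_zpowers x, hx⟩ |>.2

end CfsgLib.AltSylowTwo
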