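import Cfsg.Agent.AltSylowTwo.Basic

/-!
The maximal subgroups above a Sylow 2-subgroup of a symmetric or alternating group: there is exactly
one if and only if the degree is `2 ^ k + 1`.
-/

set_option autoImplicit false

namespace CfsgLib.AltSylowTwo

open Equiv
open scoped Pointwise

theorem perm_inv_apply {α : Type*} (f : Perm α) (a : α) : f⁻¹ (f a) = a := f.symm_apply_apply a

theorem perm_apply_inv {α : Type*} (f : Perm α) (a : α) : f (f⁻¹ a) = a := f.apply_symm_apply a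

/-- `R` lies in exactly one maximal subgroup. -/
def Uniq {G : Type*} [Group G] (R : Subgroup G) : Prop := ∃! M : Subgroup G, IsCoatom M ∧ R ≤ M

theorem uniq_map {G H : Type*} [Group G] [Group H] (e : G ≃* H) (R : Subgroup G) :
    Uniq (R.map e.toMonoidHom) ↔ Uniq R := by
  refine ((e.mapSubgroup.toEquiv).existsUnique_congr fun {M} => ?_).symm
  show _ ↔ IsCoatom (e.mapSubgroup M) ∧ e.mapSubgroup R ≤ e.mapSubgroup M
  rw [e.mapSubgroup.isCoatom_iff, e.mapSubgroup.le_iff_le]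

theorem not_uniq {G : Type*} [Group G] [Finite G] {R M₁ M₂ : Subgroup G} (h₁ : M₁ ≠ ⊤) (h₂ : M₂ ≠ ⊤)
    (hR₁ : R ≤ M₁) (hR₂ : R ≤ M₂) (hj : M₁ ⊔ M₂ = ⊤) : ¬ Uniq R := by
  rintro ⟨M, -, huniq⟩
  obtain ⟨C₁, hC₁, hM₁⟩ := (eq_top_or_exists_le_coatom M₁).resolve_left h₁
  obtain ⟨C₂, hC₂, hM₂⟩ := (eq_top_or_exists_le_coatom M₂).resolve_left h₂
  have e₁ := huniq C₁ ⟨hC₁, hR₁.trans hM₁⟩
  have e₂ := huniq C₂ ⟨hC₂, hR₂.trans hM₂⟩
  rw [e₁] at hC₁ hM₁
  rw [e₂] at hM₂
  exact hC₁.1 (top_le_iff.1 (hj.ge.trans (sup_le hM₁ hM₂)))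

theorem uniq_of_forall_le {G : Type*} [Group G] [Finite G] {R M : Subgroup G} (hM : M ≠ ⊤) (hRM : R ≤ M)
    (h : ∀ M' : Subgroup G, M' ≠ ⊤ → R ≤ M' → M' ≤ M) : Uniq R := by
  obtain ⟨C, hC, hMC⟩ := (eq_top_or_exists_le_coatom M).resolve_left hM
  have hCM : C = M := le_antisymm (h C hC.1 (hRM.trans hMC)) hMC
  subst hCM
  refine ⟨C, ⟨hC, hRM⟩, fun M' hM' => ?_⟩
  exact ((hM'.1.le_iff).1 (h M' hM'.1.1 hM'.2)).resolve_left hM |>.symm

variable {m r : ℕ}

/-- Permutations preserving the partition `{O, Oᶜ}`. -/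
def sameSide {α : Type*} (O : Set α) : Subgroup (Perm α) where
  carrier := {c | ∀ a b, ((c a ∈ O ↔ c b ∈ O) ↔ (a ∈ O ↔ b ∈ O))}
  one_mem' := fun a b => Iff.rfl
  mul_mem' := fun {c d} hc hd a b => (hc (d a) (d b)).trans (hd a b)
  inv_mem' := fun {c} hc a b => by
    have := hc (c⁻¹ a) (c⁻¹ b)
    simp only [perm_apply_inv] at this
    exact this.symm

theorem swap_mem_sameSide {α : Type*} [DecidableEq α] {O : Set α} {x y : α} (h : x ∈ O ↔ y ∈ O) :
    Equiv.swap x y ∈ sameSide O := by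
  have h1 : ∀ a, Equiv.swap x y a ∈ O ↔ a ∈ O := fun a => by
    by_cases hx : a = x
    · subst hx; rw [Equiv.swap_apply_left]; exact h.symm
    · by_cases hy : a = y
      · subst hy; rw [Equiv.swap_apply_right]; exact h
      · rw [Equiv.swap_apply_of_ne_of_ne hx hy]
  intro a b
  rw [h1, h1]

/-- From symmetric to alternating. -/
theorem not_uniq_both {α : Type*} [Fintype α] [DecidableEq α] {P M₁ M₂ : Subgroup (Perm α)} {t : Perm α}
    (ht : t.IsSwap) (ht₁ : t ∈ M₁) (ht₂ : t ∈ M₂) (h₁ : M₁ ≠ ⊤) (h₂ : M₂ ≠ ⊤) (hP₁ : P ≤ M₁) (hP₂ : P ≤ M₂)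
    (hj : M₁ ⊔ M₂ = ⊤) : ¬ Uniq P ∧ ¬ Uniq (P.subgroupOf (alternatingGroup α)) := by
  refine ⟨not_uniq h₁ h₂ hP₁ hP₂ hj, ?_⟩
  set A := alternatingGroup α with hA
  have hts : Perm.sign t = -1 := ht.sign_eq
  have hpar : ∀ x : Perm α, x ∈ A ∨ x * t ∈ A := fun x => by
    rcases Int.units_eq_one_or (Perm.sign x) with h | h
    · exact Or.inl h
    · refine Or.inr ?_
      show Perm.sign (x * t) = 1
      rw [map_mul, h, hts]; decide
  have hne : ∀ M : Subgroup (Perm α), t ∈ M → M ≠ ⊤ → M.subgroupOf A ≠ ⊤ := fun M htM hM he => by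
    refine hM ((Subgroup.eq_top_iff' M).2 fun x => ?_)
    have hAM : A ≤ M := Subgroup.subgroupOf_eq_top.1 he
    rcases hpar x with h | h
    · exact hAM h
    · exact (M.mul_mem_cancel_right htM).1 (hAM h)
  refine not_uniq (hne M₁ ht₁ h₁) (hne M₂ ht₂ h₂) (Subgroup.comap_mono hP₁) (Subgroup.comap_mono hP₂) ?_
  set J : Subgroup (Perm α) := (M₁ ⊓ A) ⊔ (M₂ ⊓ A) with hJ
  have hJA : J ≤ A := sup_le inf_le_right inf_le_right
  have hconj : ∀ M : Subgroup (Perm α), t ∈ M → ∀ y ∈ M ⊓ A, t * y * t⁻¹ ∈ M ⊓ A := fun M htM y hy =>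
    Subgroup.mem_inf.2 ⟨mul_mem (mul_mem htM hy.1) (inv_mem htM), (inferInstance : A.Normal).conj_mem y hy.2 t⟩
  have hN : Subgroup.zpowers t ≤ Subgroup.normalizer (J : Set (Perm α)) := by
    rw [Subgroup.zpowers_le]
    refine mem_normalizer_of_forall fun y hy => ?_
    have hle : J ≤ J.comap (MulAut.conj t).toMonoidHom := sup_le
      (fun y hy => Subgroup.mem_sup_left (hconj M₁ ht₁ y hy)) (fun y hy => Subgroup.mem_sup_right (hconj M₂ ht₂ y hy))
    exact hle hy
  have htop : Subgroup.zpowers t ⊔ J = ⊤ := by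
    rw [eq_top_iff, ← hj]
    have hsub : ∀ M : Subgroup (Perm α), t ∈ M → M ⊓ A ≤ J → M ≤ Subgroup.zpowers t ⊔ J := fun M htM hMJ x hx => by
      rcases hpar x with h | h
      · exact Subgroup.mem_sup_right (hMJ ⟨hx, h⟩)
      · exact ((Subgroup.zpowers t ⊔ J).mul_mem_cancel_right (Subgroup.mem_sup_left (Subgroup.mem_zpowers t))).1
          (Subgroup.mem_sup_right (hMJ ⟨mul_mem hx htM, h⟩))
    exact sup_le (hsub M₁ ht₁ le_sup_left) (hsub M₂ ht₂ le_sup_right)
  have hAJ : A ≤ J := by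
    intro a ha
    obtain ⟨s, hs, y, hy, hsy⟩ : ∃ s ∈ Subgroup.zpowers t, ∃ y ∈ J, s * y = a := by
      have : a ∈ ((Subgroup.zpowers t : Set (Perm α)) * (J : Set (Perm α))) := by
        rw [← Subgroup.coe_mul_of_left_le_normalizer_right _ J hN, htop]
        exact Subgroup.mem_top a
      exact this
    obtain ⟨k, rfl⟩ := hs
    have hsA : Perm.sign (t ^ k) = 1 := by
      have h1 : Perm.sign (t ^ k * y) = 1 := hsy ▸ ha
      rwa [map_mul, show Perm.sign y = 1 from hJA hy, mul_one] at h1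
    have ht2 : t ^ 2 = 1 := by
      obtain ⟨x, y', -, rfl⟩ := ht
      rw [pow_two, Equiv.swap_mul_self]
    simp only at hsy hsA ⊢
    rcases Int.even_or_odd k with ⟨l, rfl⟩ | ⟨l, rfl⟩
    · rw [← hsy, ← two_mul, zpow_mul, zpow_two, ← pow_two, ht2, one_zpow, one_mul]
      exact hy
    · rw [map_zpow, hts, zpow_add, zpow_mul, zpow_one] at hsA
      norm_num at hsA
  rw [eq_top_iff]
  rintro ⟨a, ha⟩ -
  have : J ≤ (M₁.subgroupOf A ⊔ M₂.subgroupOf A).map A.subtype := by
    rw [Subgroup.map_sup]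
    simp only [Subgroup.subgroupOf_map_subtype]
    exact le_rfl
  obtain ⟨w, hw, hwe⟩ := this (hAJ ha)
  rwa [← show w = ⟨a, ha⟩ from Subtype.ext hwe]

/-- A Sylow 2-subgroup of `Sym(m)` preserves a partition in two sides; if `m` is not a power of 2 it
fixes a proper set, and otherwise it is transitive. -/
theorem exists_side (hm : 2 ≤ m) (P₀ : Sylow 2 (Perm (Fin m))) :
    ∃ I : Set (Fin m), ∃ i₀ ∈ I, ∃ j₀, j₀ ∉ I ∧
      (∀ π ∈ (P₀ : Subgroup (Perm (Fin m))), ∀ a b, ((π a ∈ I ↔ π b ∈ I) ↔ (a ∈ I ↔ b ∈ I))) ∧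
      ((¬ ∃ j, m = 2 ^ j) → ∀ π ∈ (P₀ : Subgroup (Perm (Fin m))), ∀ a, π a ∈ I ↔ a ∈ I) ∧
      ((∃ j, m = 2 ^ j) → ∀ a b, ∃ π ∈ (P₀ : Subgroup (Perm (Fin m))), π a = b) := by
  classical
  set P : Subgroup (Perm (Fin m)) := (P₀ : Subgroup (Perm (Fin m))) with hP
  let i₀ : Fin m := ⟨0, by omega⟩
  obtain ⟨e, he⟩ := P₀.2.card_orbit i₀
  have hle : Nat.card (MulAction.orbit P i₀) ≤ m := by
    refine (Nat.card_le_card_of_injective Subtype.val Subtype.val_injective).trans (le_of_eq ?_)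
    simp
  have hpow : ∀ j, m = 2 ^ j → MulAction.orbit P i₀ = Set.univ := by
    intro j hj
    refine Set.eq_univ_iff_forall.2 fun a => ?_
    have hcard : Nat.card (MulAction.orbit P i₀) = m := by
      have hPos : Nat.card (MulAction.orbit P i₀) * Nat.card (MulAction.stabilizer P i₀) = Nat.card P := by
        rw [← Nat.card_prod]
        exact Nat.card_congr (MulAction.orbitProdStabilizerEquivGroup P i₀)
      have hG : Nat.card (MulAction.orbit (Perm (Fin m)) i₀) * Nat.card (MulAction.stabilizer (Perm (Fin m)) i₀) =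
          Nat.card (Perm (Fin m)) := by
        rw [← Nat.card_prod]
        exact Nat.card_congr (MulAction.orbitProdStabilizerEquivGroup (Perm (Fin m)) i₀)
      rw [show MulAction.orbit (Perm (Fin m)) i₀ = Set.univ from MulAction.orbit_eq_univ _ _, Nat.card_univ,
        Nat.card_fin] at hG
      obtain ⟨s, hs⟩ := (P₀.2.to_subgroup (MulAction.stabilizer P i₀)).exists_card_eq
      have hsd : 2 ^ s ∣ Nat.card (MulAction.stabilizer (Perm (Fin m)) i₀) := by
        rw [← hs, ← Subgroup.card_map_of_injective P.subtype_injective (K := MulAction.stabilizer P i₀)]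
        refine Subgroup.card_dvd_of_le ?_
        rintro _ ⟨π, hπ, rfl⟩
        exact hπ
      have hv : s ≤ (Nat.card (MulAction.stabilizer (Perm (Fin m)) i₀)).factorization 2 :=
        (Nat.prime_two.pow_dvd_iff_le_factorization Nat.card_pos.ne').1 hsd
      have hPc : Nat.card P = 2 ^ (Nat.card (Perm (Fin m))).factorization 2 := P₀.card_eq_multiplicity
      have hmv : m.factorization 2 = j := by rw [hj]; exact Nat.factorization_pow_self Nat.prime_two
      rw [← hG, Nat.factorization_mul (by omega) Nat.card_pos.ne', Finsupp.add_apply, hmv, ← hPos, he, hs,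
        ← pow_add] at hPc
      have h5 := Nat.pow_right_injective le_rfl hPc
      have h6 : j ≤ e := by omega
      have := Nat.pow_le_pow_right (show 1 ≤ 2 by norm_num) h6
      have he' : Nat.card (MulAction.orbit P i₀) = 2 ^ e := he
      omega
    by_contra ha
    have hlt : Nat.card (MulAction.orbit P i₀) < Nat.card (Fin m) :=
      Set.ncard_univ (Fin m) ▸ Nat.card_coe_set_eq (MulAction.orbit P i₀) ▸
        Set.ncard_lt_ncard ⟨Set.subset_univ _, fun h => ha (h (Set.mem_univ a))⟩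
    rw [hcard, Nat.card_fin] at hlt
    omega
  by_cases hj : ∃ j, m = 2 ^ j
  · obtain ⟨j, hj'⟩ := hj
    have huniv := hpow j hj'
    have htrans : ∀ a b, ∃ π ∈ P, π a = b := fun a b => by
      obtain ⟨⟨u, hu⟩, hua⟩ : a ∈ MulAction.orbit P i₀ := huniv ▸ Set.mem_univ a
      obtain ⟨⟨v, hv⟩, hvb⟩ : b ∈ MulAction.orbit P i₀ := huniv ▸ Set.mem_univ b
      refine ⟨v * u⁻¹, mul_mem hv (inv_mem hu), ?_⟩
      have h1 : u i₀ = a := hua
      have h2 : v i₀ = b := hvb
      rw [Perm.mul_apply, ← h1, perm_inv_apply, h2]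
    obtain ⟨N, hN⟩ := P₀.2.exists_card_eq
    have hH : MulAction.stabilizer P i₀ ≠ ⊤ := fun htop => by
      have h1 : ((⟨1, by omega⟩ : Fin m)) ∈ MulAction.orbit P i₀ := huniv ▸ Set.mem_univ _
      obtain ⟨u, hu⟩ := h1
      have h2 : u • i₀ = i₀ := htop.ge (Subgroup.mem_top u)
      have h3 := congrArg Fin.val (h2.symm.trans hu)
      simp [i₀] at h3
    obtain ⟨s, hs⟩ := (P₀.2.to_subgroup (MulAction.stabilizer P i₀)).exists_card_eq
    have hsN : s < N := by
      rw [← Nat.pow_lt_pow_iff_right (show 1 < 2 by norm_num), ← hs, ← hN]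
      exact lt_of_le_of_ne (Nat.le_of_dvd Nat.card_pos (Subgroup.card_subgroup_dvd_card _))
        fun e => hH (Subgroup.eq_top_of_card_eq _ e)
    obtain ⟨K, hK, hHK⟩ := Sylow.exists_subgroup_card_pow_prime_le (p := 2) (n := s) (G := P) (m := N - 1)
      (by rw [hN]; exact pow_dvd_pow 2 (Nat.sub_le _ _)) _ hs (by omega)
    have hK2 : K.index = 2 := by
      have h1 := K.card_mul_index
      rw [hK, hN] at h1
      have h2 : 2 ^ N = 2 ^ (N - 1) * 2 := by
        rw [← pow_succ]; congr 1; omega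
      rw [h2] at h1
      exact Nat.eq_of_mul_eq_mul_left (pow_pos two_pos _) h1
    set I : Set (Fin m) := {a | ∃ k ∈ K, ((k : P) : Perm (Fin m)) i₀ = a} with hI
    have hflip : ∀ π : P, ∀ a, ((π : Perm (Fin m)) a ∈ I ↔ (a ∈ I ↔ π ∈ K)) := by
      intro π a
      obtain ⟨u, hu⟩ : a ∈ MulAction.orbit P i₀ := huniv ▸ Set.mem_univ a
      have hmemI : ∀ w : P, ((w : Perm (Fin m)) i₀ ∈ I ↔ w ∈ K) := fun w => by
        refine ⟨?_, fun hw => ⟨w, hw, rfl⟩⟩
        rintro ⟨k, hk, hkw⟩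
        have hst : k⁻¹ * w ∈ MulAction.stabilizer P i₀ := by
          show (k⁻¹ * w) • i₀ = i₀
          rw [mul_smul, inv_smul_eq_iff]
          exact hkw.symm
        exact (K.mul_mem_cancel_left (inv_mem hk)).1 (hHK hst)
      have h1 : ((u : P) : Perm (Fin m)) i₀ = a := hu
      rw [← h1, ← Perm.mul_apply, show (π : Perm (Fin m)) * (u : Perm (Fin m)) = ((π * u : P) : Perm (Fin m)) from rfl,
        hmemI, hmemI, Subgroup.mul_mem_iff_of_index_two hK2]
      tauto
    obtain ⟨π₁, hπ₁⟩ : ∃ π : P, π ∉ K := by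
      by_contra hcon
      push_neg at hcon
      rw [(Subgroup.eq_top_iff' K).2 hcon, Subgroup.index_top] at hK2
      omega
    have hi₀ : i₀ ∈ I := ⟨1, one_mem _, rfl⟩
    refine ⟨I, i₀, hi₀, (π₁ : Perm (Fin m)) i₀, ?_, ?_, fun hn => absurd ⟨j, hj'⟩ hn, fun _ => htrans⟩
    · rw [hflip]; tauto
    · intro π hπ a b
      rw [hflip ⟨π, hπ⟩, hflip ⟨π, hπ⟩]
      tauto
  · refine ⟨MulAction.orbit P i₀, i₀, MulAction.mem_orbit_self _, ?_⟩
    have hne : ∃ j₀, j₀ ∉ MulAction.orbit P i₀ := by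
      by_contra hcon
      push_neg at hcon
      refine hj ⟨e, ?_⟩
      rw [← he, Set.eq_univ_iff_forall.2 hcon, Nat.card_univ, Nat.card_fin]
    obtain ⟨j₀, hj₀⟩ := hne
    have hinv : ∀ π ∈ P, ∀ a, π a ∈ MulAction.orbit P i₀ ↔ a ∈ MulAction.orbit P i₀ := fun π hπ a =>
      ⟨fun h => by
        obtain ⟨u, hu⟩ := MulAction.mem_orbit_iff.1 h
        refine MulAction.mem_orbit_iff.2 ⟨(⟨π, hπ⟩ : P)⁻¹ * u, ?_⟩
        rw [mul_smul, hu]
        exact inv_smul_smul (⟨π, hπ⟩ : P) a, fun h => by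
        obtain ⟨u, hu⟩ := MulAction.mem_orbit_iff.1 h
        refine MulAction.mem_orbit_iff.2 ⟨(⟨π, hπ⟩ : P) * u, ?_⟩
        rw [mul_smul, hu]
        rfl⟩
    exact ⟨j₀, hj₀, fun π hπ a b => by rw [hinv π hπ, hinv π hπ], fun _ => hinv, fun h => absurd h hj⟩

/-- The points of the pairs in `I`. -/
def side (I : Set (Fin m)) : Set (Fin m × Bool ⊕ Fin r) := {a | ∃ i ∈ I, ∃ b, a = Sum.inl (i, b)}

@[simp] theorem inl_mem_side {I : Set (Fin m)} {i : Fin m} {b : Bool} :
    (Sum.inl (i, b) : Fin m × Bool ⊕ Fin r) ∈ side (r := r) I ↔ i ∈ I := by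
  constructor
  · rintro ⟨i', hi', b', h⟩
    obtain ⟨rfl, -⟩ := Prod.ext_iff.1 (Sum.inl.inj h)
    exact hi'
  · exact fun h => ⟨i, h, b, rfl⟩

@[simp] theorem inr_notMem_side {I : Set (Fin m)} {k : Fin r} :
    (Sum.inr k : Fin m × Bool ⊕ Fin r) ∉ side (r := r) I := by
  rintro ⟨i, -, b, h⟩; cases h

theorem flip_mem_pairs (P₀ : Subgroup (Perm (Fin m))) (i : Fin m) :
    Equiv.swap (Sum.inl (i, false)) (Sum.inl (i, true)) ∈ pairs (r := r) P₀ :=
  mk_single (r := r) i ▸ mem_pairs.2 (one_mem _)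

theorem sameSide_ne_top {I : Set (Fin m)} {i₀ j₀ : Fin m} (hi₀ : i₀ ∈ I) (hj₀ : j₀ ∉ I) :
    sameSide (side (r := r) I) ≠ ⊤ := by
  intro h
  have := h.ge (Subgroup.mem_top (Equiv.swap (Sum.inl (i₀, false)) (Sum.inl (j₀, false))))
    (Sum.inl (i₀, false)) (Sum.inl (i₀, true))
  have hne : j₀ ≠ i₀ := fun e => hj₀ (e ▸ hi₀)
  rw [Equiv.swap_apply_left, Equiv.swap_apply_of_ne_of_ne (by simp) (by simp [hne.symm])] at this
  simp [hi₀, hj₀] at this

theorem top_of_forall_swap {α : Type*} [Fintype α] [DecidableEq α] {J : Subgroup (Perm α)}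
    (h : ∀ x y : α, x ≠ y → Equiv.swap x y ∈ J) : J = ⊤ := by
  rw [eq_top_iff, ← Perm.closure_isSwap, Subgroup.closure_le]
  rintro σ ⟨x, y, hxy, rfl⟩
  exact h x y hxy

/-- Even degree: two maximal subgroups. -/
theorem not_uniq_even (hm : 3 ≤ m) (P₀ : Sylow 2 (Perm (Fin m))) :
    ¬ Uniq (pairs (r := 0) (P₀ : Subgroup (Perm (Fin m)))) ∧
      ¬ Uniq ((pairs (r := 0) (P₀ : Subgroup (Perm (Fin m)))).subgroupOf (alternatingGroup (Fin m × Bool ⊕ Fin 0))) := by
  obtain ⟨I, i₀, hi₀, j₀, hj₀, hinv, -, -⟩ := exists_side (by omega) P₀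
  refine not_uniq_both (M₁ := pairs ⊤) (M₂ := sameSide (side I))
    (t := Equiv.swap (Sum.inl (i₀, false)) (Sum.inl (i₀, true))) ⟨_, _, by simp, rfl⟩ (flip_mem_pairs _ _)
    (swap_mem_sameSide (by simp)) ?_ (sameSide_ne_top hi₀ hj₀) ?_ ?_ ?_
  · intro h
    obtain ⟨π, -, e, he⟩ := h.ge (Subgroup.mem_top (Equiv.swap (Sum.inl (i₀, false)) (Sum.inl (j₀, false))))
    have hne : j₀ ≠ i₀ := fun e => hj₀ (e ▸ hi₀)
    have h1 := DFunLike.congr_fun he (Sum.inl (i₀, false))
    have h2 := DFunLike.congr_fun he (Sum.inl (i₀, true))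
    rw [Equiv.swap_apply_left] at h1
    rw [Equiv.swap_apply_of_ne_of_ne (by simp) (by simp [hne.symm])] at h2
    simp only [mk_inl, Sum.inl.injEq, Prod.mk.injEq] at h1 h2
    exact hne (h1.1.trans h2.1.symm)
  · rintro _ ⟨π, -, e, rfl⟩
    exact mem_pairs.2 (Subgroup.mem_top π)
  · rintro _ ⟨π, hπ, e, rfl⟩ (⟨a, x⟩ | k) (⟨b, y⟩ | k')
    · simpa using hinv π hπ a b
    · exact k'.elim0
    · exact k.elim0
    · exact k.elim0
  · obtain ⟨i', j', hij, hside⟩ : ∃ i' j', i' ≠ j' ∧ (i' ∈ I ↔ j' ∈ I) := by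
      obtain ⟨k, hk⟩ : ∃ k, k ≠ i₀ ∧ k ≠ j₀ := by
        by_contra hcon
        push_neg at hcon
        have h3 : (Finset.univ : Finset (Fin m)) ⊆ {i₀, j₀} := fun l _ => by
          by_cases h : l = i₀ <;> simp [h, hcon l]
          exact hcon l h
        have := (Finset.card_le_card h3).trans Finset.card_le_two
        simp at this; omega
      by_cases hkI : k ∈ I
      · exact ⟨k, i₀, hk.1, by tauto⟩
      · exact ⟨k, j₀, hk.2, by tauto⟩
    refine top_of_forall_swap ?_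
    rintro (⟨i, b⟩ | k) (⟨j, c⟩ | k') hne
    · by_cases h : i = j
      · subst h
        refine Subgroup.mem_sup_left ?_
        cases b <;> cases c <;> first | exact absurd rfl hne | exact flip_mem_pairs ⊤ i | (rw [Equiv.swap_comm]; exact flip_mem_pairs ⊤ i)
      · set π₁ : Perm (Fin m) := Equiv.swap i' i
        set π : Perm (Fin m) := Equiv.swap (π₁ j') j * π₁
        have hπi : π i' = i := by
          have h1 : π₁ i' = i := Equiv.swap_apply_left _ _
          show Equiv.swap (π₁ j') j (π₁ i') = i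
          rw [h1, Equiv.swap_apply_of_ne_of_ne (fun e => hij (π₁.injective (h1.trans e))) h]
        have hπj : π j' = j := Equiv.swap_apply_left _ _
        set e : Fin m → Bool := fun l => if l = i' then b else c
        have hf : mk (r := 0) π e ∈ (pairs ⊤ ⊔ sameSide (side I) : Subgroup (Perm (Fin m × Bool ⊕ Fin 0))) :=
          Subgroup.mem_sup_left (mem_pairs.2 (Subgroup.mem_top π))
        have hs : Equiv.swap (Sum.inl (i', false)) (Sum.inl (j', false)) ∈
            (pairs ⊤ ⊔ sameSide (side I) : Subgroup (Perm (Fin m × Bool ⊕ Fin 0))) :=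
          Subgroup.mem_sup_right (swap_mem_sameSide (by simpa using hside))
        have := mul_mem (mul_mem hf hs) (inv_mem hf)
        rw [← Equiv.swap_apply_apply] at this
        simpa [hπi, hπj, e, hij.symm] using this
    · exact k'.elim0
    · exact k.elim0
    · exact k.elim0

/-- Odd degree `2m + 1`, `m` not a power of 2: two maximal subgroups. -/
theorem not_uniq_odd (hm : 2 ≤ m) (hpow : ¬ ∃ j, m = 2 ^ j) (P₀ : Sylow 2 (Perm (Fin m))) :
    ¬ Uniq (pairs (r := 1) (P₀ : Subgroup (Perm (Fin m)))) ∧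
      ¬ Uniq ((pairs (r := 1) (P₀ : Subgroup (Perm (Fin m)))).subgroupOf (alternatingGroup (Fin m × Bool ⊕ Fin 1))) := by
  obtain ⟨I, i₀, hi₀, j₀, hj₀, -, hinv, -⟩ := exists_side hm P₀
  refine not_uniq_both (M₁ := MulAction.stabilizer (Perm (Fin m × Bool ⊕ Fin 1)) (Sum.inr 0 : Fin m × Bool ⊕ Fin 1))
    (M₂ := sameSide (side I))
    (t := Equiv.swap (Sum.inl (i₀, false)) (Sum.inl (i₀, true))) ⟨_, _, by simp, rfl⟩ ?_
    (swap_mem_sameSide (by simp)) ?_ (sameSide_ne_top hi₀ hj₀) ?_ ?_ ?_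
  · exact Equiv.swap_apply_of_ne_of_ne (by simp) (by simp)
  · intro h
    have h1 : Equiv.swap (Sum.inr 0 : Fin m × Bool ⊕ Fin 1) (Sum.inl (i₀, false)) (Sum.inr 0) = Sum.inr 0 :=
      h.ge (Subgroup.mem_top (Equiv.swap (Sum.inr 0) (Sum.inl (i₀, false))))
    simp at h1
  · rintro _ ⟨π, -, e, rfl⟩
    exact mk_inr π e 0
  · rintro _ ⟨π, hπ, e, rfl⟩ (⟨a, x⟩ | k) (⟨b, y⟩ | k') <;>
      simp [hinv hpow π hπ]
  · set M₁ := MulAction.stabilizer (Perm (Fin m × Bool ⊕ Fin 1)) (Sum.inr 0 : Fin m × Bool ⊕ Fin 1) with hM₁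
    have h1 : ∀ p q, p ≠ (Sum.inr 0 : Fin m × Bool ⊕ Fin 1) → q ≠ Sum.inr 0 → Equiv.swap p q ∈ M₁ :=
      fun p q hp hq => Equiv.swap_apply_of_ne_of_ne hp.symm hq.symm
    have h2 : ∀ x, x ≠ (Sum.inr 0 : Fin m × Bool ⊕ Fin 1) → Equiv.swap (Sum.inr 0) x ∈ M₁ ⊔ sameSide (side I) := by
      intro x hx
      have hs : Equiv.swap (Sum.inr 0 : Fin m × Bool ⊕ Fin 1) (Sum.inl (j₀, false)) ∈ M₁ ⊔ sameSide (side I) :=
        Subgroup.mem_sup_right (swap_mem_sameSide (by simp [hj₀]))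
      have hf : Equiv.swap (Sum.inl (j₀, false)) x ∈ M₁ ⊔ sameSide (side I) :=
        Subgroup.mem_sup_left (h1 _ _ (by simp) hx)
      have := mul_mem (mul_mem hf hs) (inv_mem hf)
      rw [← Equiv.swap_apply_apply, Equiv.swap_apply_left,
        Equiv.swap_apply_of_ne_of_ne (by simp) hx.symm] at this
      exact this
    refine top_of_forall_swap fun p q hpq => ?_
    by_cases hp : p = Sum.inr 0
    · subst hp; exact h2 q hpq.symm
    · by_cases hq : q = Sum.inr 0
      · subst hq; rw [Equiv.swap_comm]; exact h2 p hp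
      · exact Subgroup.mem_sup_left (h1 p q hp hq)

/-- Two elements moving exactly one common point have a 3-cycle as commutator. -/
theorem isThreeCycle_commutator {α : Type*} [Fintype α] [DecidableEq α] {f g : Perm α} {x : α}
    (hf : f x ≠ x) (hg : g x ≠ x) (h : ∀ a, f a ≠ a → g a ≠ a → a = x) :
    (g * f * g⁻¹ * f⁻¹).IsThreeCycle := by
  set c := g * f * g⁻¹ * f⁻¹ with hc
  have happ : ∀ a, c a = g (f (g⁻¹ (f⁻¹ a))) := fun a => rfl
  have hgi : ∀ a, g a = a → g⁻¹ a = a := fun a ha => by rw [Perm.inv_eq_iff_eq, ha]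
  have hfi : ∀ a, f a = a → f⁻¹ a = a := fun a ha => by rw [Perm.inv_eq_iff_eq, ha]
  have hsub : c.support ⊆ {x, f x, g x} := by
    intro a ha
    rw [Perm.mem_support] at ha
    by_contra hcon
    simp only [Finset.mem_insert, Finset.mem_singleton, not_or] at hcon
    obtain ⟨hax, hafx, hagx⟩ := hcon
    apply ha
    rw [happ]
    by_cases hga : g a = a
    · by_cases hfa : f a = a
      · rw [hfi a hfa, hgi a hga, hfa, hga]
      · have hy : g (f⁻¹ a) = f⁻¹ a := by
          by_contra hgy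
          have hfy : f (f⁻¹ a) ≠ f⁻¹ a := fun e => hfa (f⁻¹.injective (by simpa using e))
          exact hafx (by rw [← h _ hfy hgy, perm_apply_inv])
        rw [hgi _ hy, perm_apply_inv, hga]
    · have hfa : f a = a := by
        by_contra hfa
        exact hax (h a hfa hga)
      rw [hfi a hfa]
      have : f (g⁻¹ a) = g⁻¹ a := by
        by_contra hfy
        have hgy : g (g⁻¹ a) ≠ g⁻¹ a := fun e => hga (g⁻¹.injective (by simpa using e))
        exact hagx (by rw [← h _ hfy hgy, perm_apply_inv])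
      rw [this, perm_apply_inv]
  have hne : c ≠ 1 := by
    intro e
    apply hf
    have h1 : c (f x) = f x := by rw [e]; rfl
    rw [happ, perm_inv_apply] at h1
    have : f (g⁻¹ x) = g⁻¹ x := by
      by_contra hfy
      have hgy : g (g⁻¹ x) ≠ g⁻¹ x := fun e' => hg (g⁻¹.injective (by simpa using e'))
      have hx' := congrArg g (h _ hfy hgy)
      rw [perm_apply_inv] at hx'
      exact hg hx'.symm
    rw [this, perm_apply_inv] at h1
    exact h1.symm
  have hsign : Perm.sign c = 1 := by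
    rw [hc, map_mul, map_mul, map_mul, map_inv, map_inv]
    rcases Int.units_eq_one_or (Perm.sign g) with h' | h' <;>
      rcases Int.units_eq_one_or (Perm.sign f) with h'' | h'' <;> simp [h', h'']
  have hle : c.support.card ≤ 3 := (Finset.card_le_card hsub).trans Finset.card_le_three
  have h2 : c.support.card ≠ 2 := fun e => by
    rw [(Perm.card_support_eq_two.1 e).sign_eq] at hsign
    exact absurd hsign (by decide)
  have h0 : c.support.card ≠ 0 := fun e => hne (Perm.card_support_eq_zero.1 e)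
  have h1 := Perm.card_support_ne_one c
  exact card_support_eq_three_iff.1 (by omega)

/-- `Q` acts transitively off `∞`; then subgroups above it moving `∞` are doubly transitive. -/
theorem two_transitive_of_moves {α : Type*} {M Q : Subgroup (Perm α)} (hQM : Q ≤ M) {o : α}
    (hfix : ∀ q ∈ Q, q o = o) (htr : ∀ a b, a ≠ o → b ≠ o → ∃ q ∈ Q, q a = b) (hmove : ∃ g ∈ M, g o ≠ o) :
    ∀ a b c d : α, a ≠ b → c ≠ d → ∃ g ∈ M, g a = c ∧ g b = d := by
  obtain ⟨g₀, hg₀, hmv⟩ := hmove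
  have h1 : ∀ a, ∃ g ∈ M, g a = o := by
    intro a
    by_cases ha : a = o
    · exact ⟨1, one_mem _, ha⟩
    · obtain ⟨q, hq, hqa⟩ := htr a (g₀ o) ha hmv
      exact ⟨g₀⁻¹ * q, mul_mem (inv_mem hg₀) (hQM hq), by rw [Perm.mul_apply, hqa, perm_inv_apply]⟩
  intro a b c d hab hcd
  obtain ⟨g, hg, hga⟩ := h1 a
  obtain ⟨h, hh, hhc⟩ := h1 c
  have hgb : g b ≠ o := fun e => hab (g.injective (hga.trans e.symm))
  have hhd : h d ≠ o := fun e => hcd (h.injective (hhc.trans e.symm))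
  obtain ⟨q, hq, hqe⟩ := htr (g b) (h d) hgb hhd
  refine ⟨h⁻¹ * q * g, mul_mem (mul_mem (inv_mem hh) (hQM hq)) hg, ?_, ?_⟩
  · rw [Perm.mul_apply, Perm.mul_apply, hga, hfix q hq, ← hhc, perm_inv_apply]
  · rw [Perm.mul_apply, Perm.mul_apply, hqe, perm_inv_apply]

/-- Degree `2 ^ (j + 1) + 1`: exactly one maximal subgroup. -/
theorem uniq_odd (hm : 2 ≤ m) (hpow : ∃ j, m = 2 ^ j) (P₀ : Sylow 2 (Perm (Fin m))) :
    Uniq (pairs (r := 1) (P₀ : Subgroup (Perm (Fin m)))) ∧
      Uniq ((pairs (r := 1) (P₀ : Subgroup (Perm (Fin m)))).subgroupOf (alternatingGroup (Fin m × Bool ⊕ Fin 1))) := by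
  classical
  obtain ⟨I, i₀, hi₀, j₀, hj₀, -, -, htrans⟩ := exists_side hm P₀
  replace htrans := htrans hpow
  set o : Fin m × Bool ⊕ Fin 1 := Sum.inr 0 with ho
  set P := pairs (r := 1) (P₀ : Subgroup (Perm (Fin m))) with hP
  set S := MulAction.stabilizer (Perm (Fin m × Bool ⊕ Fin 1)) o with hS
  set A := alternatingGroup (Fin m × Bool ⊕ Fin 1) with hA
  have hfix : ∀ q ∈ P, q o = o := by
    rintro _ ⟨π, -, e, rfl⟩
    exact mk_inr π e 0
  have hne : ∀ x : Fin m × Bool ⊕ Fin 1, x ≠ o → ∃ i b, x = Sum.inl (i, b) := by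
    rintro (⟨i, b⟩ | k) hx
    · exact ⟨i, b, rfl⟩
    · exact absurd (by rw [ho, Subsingleton.elim k 0]) hx
  have hsflip : ∀ i : Fin m, Perm.sign (mk (r := 1) 1 (fun j => decide (j = i))) = -1 := fun i => by
    rw [mk_single, Perm.sign_swap]; simp
  have htrP : ∀ a b, a ≠ o → b ≠ o → ∃ q ∈ P, Perm.sign q = 1 ∧ q a = b := by
    intro a b ha hb
    obtain ⟨i, x, rfl⟩ := hne a ha
    obtain ⟨j, y, rfl⟩ := hne b hb
    obtain ⟨π, hπ, hπi⟩ := htrans i j
    obtain ⟨k, hk⟩ : ∃ k, k ≠ i := by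
      by_cases h : i₀ = i
      · exact ⟨j₀, fun e => hj₀ (e.trans h.symm ▸ hi₀)⟩
      · exact ⟨i₀, h⟩
    set e : Fin m → Bool := fun _ => xor x y with he
    rcases Int.units_eq_one_or (Perm.sign (mk (r := 1) π e)) with h | h
    · refine ⟨_, mem_pairs.2 hπ, h, ?_⟩
      rw [mk_inl, hπi, he]; cases x <;> cases y <;> rfl
    · refine ⟨mk π e * mk 1 (fun l => decide (l = k)), mul_mem (mem_pairs.2 hπ) (mem_pairs.2 (one_mem _)), ?_, ?_⟩
      · rw [map_mul, h, hsflip]; decide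
      · rw [Perm.mul_apply, mk_inl, mk_inl, Perm.one_apply, hπi, he]
        cases x <;> cases y <;> simp [hk.symm]
  have hStop : S ≠ ⊤ := fun h => by
    have h1 : Equiv.swap o (Sum.inl (i₀, false)) o = o := h.ge (Subgroup.mem_top (Equiv.swap o (Sum.inl (i₀, false))))
    simp [ho] at h1
  refine ⟨uniq_of_forall_le hStop hfix fun M hM hPM => ?_, ?_⟩
  · by_contra hle
    obtain ⟨g, hg, hgo⟩ := SetLike.not_le_iff_exists.1 hle
    have h2 := two_transitive_of_moves hPM hfix
      (fun a b ha hb => by obtain ⟨q, hq, -, hqe⟩ := htrP a b ha hb; exact ⟨q, hq, hqe⟩) ⟨g, hg, hgo⟩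
    refine hM (top_of_forall_swap fun p q hpq => ?_)
    obtain ⟨f, hf, hfa, hfb⟩ := h2 (Sum.inl (i₀, false)) (Sum.inl (i₀, true)) p q (by simp) hpq
    have := mul_mem (mul_mem hf (hPM (flip_mem_pairs _ i₀))) (inv_mem hf)
    rwa [← Equiv.swap_apply_apply, hfa, hfb] at this
  · refine uniq_of_forall_le (M := S.subgroupOf A) ?_ (Subgroup.comap_mono fun q hq => hfix q hq) fun M hM hPM => ?_
    · intro he
      have hAS : A ≤ S := Subgroup.subgroupOf_eq_top.1 he
      have h1 : (Equiv.swap o (Sum.inl (i₀, false)) * Equiv.swap o (Sum.inl (i₀, true))) o = o := hAS (by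
        show Perm.sign _ = 1
        rw [map_mul, Perm.sign_swap (by simp [ho]), Perm.sign_swap (by simp [ho])]; decide)
      simp [ho, Equiv.swap_apply_of_ne_of_ne] at h1
    by_contra hle
    obtain ⟨⟨g, hgA⟩, hg, hgo⟩ := SetLike.not_le_iff_exists.1 hle
    set M' : Subgroup (Perm (Fin m × Bool ⊕ Fin 1)) := M.map A.subtype with hM'
    have hQM : P ⊓ A ≤ M' := fun q hq => ⟨⟨q, hq.2⟩, hPM (show (⟨q, hq.2⟩ : A) ∈ P.subgroupOf A from hq.1), rfl⟩
    have h2 := two_transitive_of_moves hQM (fun q hq => hfix q hq.1)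
      (fun a b ha hb => by obtain ⟨q, hq, hs, hqe⟩ := htrP a b ha hb; exact ⟨q, ⟨hq, hs⟩, hqe⟩)
      ⟨g, ⟨⟨g, hgA⟩, hg, rfl⟩, hgo⟩
    refine hM ?_
    suffices hAM : A ≤ M' by
      refine (Subgroup.eq_top_iff' M).2 fun a => ?_
      obtain ⟨w, hw, hwe⟩ := hAM a.2
      rwa [← show w = a from Subtype.ext hwe]
    by_cases hm4 : 4 ≤ m
    · haveI : MulAction.IsPreprimitive M' (Fin m × Bool ⊕ Fin 1) :=
        MulAction.isPreprimitive_of_is_two_pretransitive (MulAction.is_two_pretransitive_iff.2 fun {a b c d} hab hcd => by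
          obtain ⟨f, hf, h3, h4⟩ := h2 a b c d hab hcd
          exact ⟨⟨f, hf⟩, h3, h4⟩)
      set flip : Fin m → Fin m → Perm (Fin m × Bool ⊕ Fin 1) := fun i j =>
        mk 1 (fun l => decide (l = i)) * mk 1 (fun l => decide (l = j)) with hflip
      have hflipQ : ∀ i j, flip i j ∈ M' := fun i j => hQM ⟨mul_mem (mem_pairs.2 (one_mem _)) (mem_pairs.2 (one_mem _)),
        show Perm.sign _ = 1 by rw [map_mul, hsflip, hsflip]; decide⟩
      have hflipap : ∀ i j l b, i ≠ j → (flip i j (Sum.inl (l, b)) ≠ Sum.inl (l, b) ↔ (l = i ∨ l = j)) := by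
        intro i j l b hij
        by_cases h1 : l = i <;> by_cases h2 : l = j <;> simp_all [hflip]
      obtain ⟨i₁, b₁, hg1⟩ := hne (g⁻¹ o) (fun e => hgo (by
        show g o = o
        conv_lhs => rw [← e]
        simp))
      obtain ⟨i₂, hi₂⟩ : ∃ k, k ≠ i₁ := by
        by_cases h : i₀ = i₁
        · exact ⟨j₀, fun e => hj₀ (e.trans h.symm ▸ hi₀)⟩
        · exact ⟨i₀, h⟩
      set d' := g * flip i₁ i₂ * g⁻¹ with hd'
      have hd'M : d' ∈ M' := mul_mem (mul_mem ⟨⟨g, hgA⟩, hg, rfl⟩ (hflipQ _ _)) (inv_mem ⟨⟨g, hgA⟩, hg, rfl⟩)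
      have hmoves : ∀ a, d' a ≠ a ↔ flip i₁ i₂ (g⁻¹ a) ≠ g⁻¹ a := fun a => by
        rw [hd', Perm.mul_apply, Perm.mul_apply, ne_eq, ne_eq, ← Perm.eq_inv_iff_eq (f := g)]
      set F : Finset (Fin m × Bool ⊕ Fin 1) := d'.support.erase o with hF
      have hd4 : d'.support = ((({i₁, i₂} : Finset (Fin m)) ×ˢ (Finset.univ : Finset Bool)).map
          ⟨fun a => g (Sum.inl a), fun a b h => Sum.inl.inj (g.injective h)⟩) := by
        ext a
        rw [Perm.mem_support, hmoves, Finset.mem_map]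
        constructor
        · intro h
          rcases hga : g⁻¹ a with ⟨l, b⟩ | k
          · rw [hga] at h
            refine ⟨(l, b), by simpa using (hflipap _ _ _ _ hi₂.symm).1 h, ?_⟩
            show g (Sum.inl (l, b)) = a
            rw [← hga, perm_apply_inv]
          · rw [hga] at h; simp [hflip] at h
        · rintro ⟨⟨l, b⟩, hlb, rfl⟩
          show flip i₁ i₂ (g⁻¹ (g (Sum.inl (l, b)))) ≠ g⁻¹ (g (Sum.inl (l, b)))
          rw [perm_inv_apply]
          exact (hflipap _ _ _ _ hi₂.symm).2 (by simpa using hlb)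
      have ho' : o ∈ d'.support := by
        rw [Perm.mem_support, hmoves, hg1]
        exact (hflipap _ _ _ _ hi₂.symm).2 (Or.inl rfl)
      have hF3 : F.card = 3 := by
        rw [hF, Finset.card_erase_of_mem ho', hd4, Finset.card_map, Finset.card_product,
          Finset.card_pair hi₂.symm]
        simp
      have hFinl : ∀ a ∈ F, ∃ i b, a = Sum.inl (i, b) := fun a ha => hne a (Finset.ne_of_mem_erase ha)
      obtain ⟨i, b, hib, hib'⟩ : ∃ i b, Sum.inl (i, b) ∈ F ∧ Sum.inl (i, !b) ∉ F := by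
        by_contra hcon
        push_neg at hcon
        obtain ⟨a, ha⟩ := Finset.card_pos.1 (by omega : 0 < F.card)
        obtain ⟨i, b, rfl⟩ := hFinl a ha
        obtain ⟨w, hw⟩ : ∃ w, w ∈ F \ {Sum.inl (i, b), Sum.inl (i, !b)} := Finset.card_pos.1 (by
          have := Finset.le_card_sdiff ({Sum.inl (i, b), Sum.inl (i, !b)} : Finset (Fin m × Bool ⊕ Fin 1)) F
          have := Finset.card_le_two (a := (Sum.inl (i, b) : Fin m × Bool ⊕ Fin 1)) (b := Sum.inl (i, !b))
          omega)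
        obtain ⟨hwF, hw⟩ := Finset.mem_sdiff.1 hw
        obtain ⟨k, c, rfl⟩ := hFinl w hwF
        have hki : k ≠ i := fun e => hw (by subst e; cases b <;> cases c <;> simp)
        have hcard : ({Sum.inl (i, b), Sum.inl (i, !b), Sum.inl (k, c), Sum.inl (k, !c)} : Finset (Fin m × Bool ⊕ Fin 1)).card = 4 := by
          rw [Finset.card_insert_of_notMem (by cases b <;> simp [hki.symm]),
            Finset.card_insert_of_notMem (by simp [hki.symm]), Finset.card_pair (by cases c <;> simp)]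
        have hle : ({Sum.inl (i, b), Sum.inl (i, !b), Sum.inl (k, c), Sum.inl (k, !c)} : Finset (Fin m × Bool ⊕ Fin 1)) ⊆ F := by
          intro z hz
          simp only [Finset.mem_insert, Finset.mem_singleton] at hz
          rcases hz with rfl | rfl | rfl | rfl
          exacts [ha, hcon i b ha, hwF, hcon k c hwF]
        have := Finset.card_le_card hle
        omega
      set pr : (Fin m × Bool ⊕ Fin 1) → Fin m := fun a => match a with
        | Sum.inl (l, _) => l
        | Sum.inr _ => i with hpr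
      obtain ⟨v, hv⟩ : ∃ v, v ∉ F.image pr := by
        by_contra hcon
        push_neg at hcon
        have h5 := Finset.card_le_card (fun l _ => hcon l : (Finset.univ : Finset (Fin m)) ⊆ F.image pr)
        have h6 := Finset.card_image_le (f := pr) (s := F)
        simp at h5
        omega
      have hvi : v ≠ i := fun e => hv (Finset.mem_image.2 ⟨_, hib, by simp [hpr, e]⟩)
      refine Equiv.Perm.alternatingGroup_le_of_isPreprimitive_of_isThreeCycle_mem (by assumption)
        (isThreeCycle_commutator (f := d') (g := flip i v) (x := Sum.inl (i, b)) ?_ ?_ ?_) ?_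
      · exact Perm.mem_support.1 (Finset.mem_of_mem_erase hib)
      · exact (hflipap _ _ _ _ hvi.symm).2 (Or.inl rfl)
      · intro a h3 h4
        rcases a with ⟨l, c⟩ | k
        · have haF : Sum.inl (l, c) ∈ F := Finset.mem_erase.2 ⟨by simp [ho], Perm.mem_support.2 h3⟩
          rcases (hflipap _ _ _ _ hvi.symm).1 h4 with rfl | rfl
          · cases b <;> cases c <;> first | rfl | exact absurd haF hib'
          · exact absurd (Finset.mem_image.2 ⟨_, haF, by simp [hpr]⟩) hv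
        · simp [hflip] at h4
      · exact mul_mem (mul_mem (mul_mem (hflipQ _ _) hd'M) (inv_mem (hflipQ _ _))) (inv_mem hd'M)
    · obtain rfl : m = 2 := by
        obtain ⟨j, rfl⟩ := hpow
        rcases j with _ | _ | j
        · omega
        · rfl
        · exact absurd (by rw [pow_succ, pow_succ]; have := Nat.one_le_pow j 2 two_pos; omega) hm4
      by_contra hAM
      set T : Subgroup A := M with hT
      have hTtop : T ≠ ⊤ := hM
      haveI : IsSimpleGroup (alternatingGroup (Fin 5)) := inferInstance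
      obtain ⟨ε⟩ : Nonempty ((Fin 2 × Bool ⊕ Fin 1) ≃ Fin 5) := Fintype.card_eq.1 (by simp)
      haveI hsimp : IsSimpleGroup A := ε.altCongrHom.isSimpleGroup
      haveI htrM : MulAction.IsPretransitive T (Fin 2 × Bool ⊕ Fin 1) := ⟨fun a b => by
        by_cases hab : a = b
        · exact ⟨1, hab ▸ one_smul _ a⟩
        · obtain ⟨f, ⟨w, hw, rfl⟩, hfa, -⟩ := h2 a b b a hab (Ne.symm hab)
          exact ⟨⟨w, hw⟩, hfa⟩⟩
      have hc60 : Nat.card A = 60 := by
        rw [Nat.card_congr ε.altCongrHom.toEquiv, Nat.card_eq_fintype_card]; decide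
      have h5 : 5 ∣ Nat.card T := by
        have h6 := MulAction.index_stabilizer_of_transitive T (Sum.inr 0 : Fin 2 × Bool ⊕ Fin 1)
        simp at h6
        exact h6 ▸ Subgroup.index_dvd_card _
      have h4 : 4 ∣ Nat.card T := by
        have h6 : 4 ≤ Nat.card (P.subgroupOf A) := by
          let f : (Fin 2 × Bool) → P.subgroupOf A := fun a => by
            have hq := htrP (Sum.inl (0, false)) (Sum.inl a) (by simp [ho]) (by simp [ho])
            exact ⟨⟨hq.choose, hq.choose_spec.2.1⟩, hq.choose_spec.1⟩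
          have hf : Function.Injective f := fun a a' h => by
            have hqa := (htrP (Sum.inl (0, false)) (Sum.inl a) (by simp [ho]) (by simp [ho])).choose_spec.2.2
            have hqb := (htrP (Sum.inl (0, false)) (Sum.inl a') (by simp [ho]) (by simp [ho])).choose_spec.2.2
            have h7 : (((f a : P.subgroupOf A) : A) : Perm (Fin 2 × Bool ⊕ Fin 1)) = ((f a' : P.subgroupOf A) : A) :=
              congrArg (fun z : P.subgroupOf A => ((z : A) : Perm (Fin 2 × Bool ⊕ Fin 1))) h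
            have h8 := DFunLike.congr_fun h7 (Sum.inl (0, false))
            simp only [f] at h8
            rw [hqa, hqb] at h8
            exact Sum.inl.inj h8
          have := Nat.card_le_card_of_injective f hf
          simpa using this
        have hp : IsPGroup 2 (P.subgroupOf A) := by
          obtain ⟨Q, hQ⟩ := exists_pairs_sylow (r := 1) one_lt_two P₀
          exact (hP ▸ hQ ▸ Q.2).comap_of_injective A.subtype A.subtype_injective
        obtain ⟨a, ha⟩ := hp.exists_card_eq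
        have h7 : 2 ^ 2 ∣ Nat.card (P.subgroupOf A) := by
          rw [ha]
          refine pow_dvd_pow 2 ?_
          by_contra hlt
          have := Nat.pow_le_pow_right (show 1 ≤ 2 by norm_num) (show a ≤ 1 by omega)
          omega
        exact h7.trans (Subgroup.card_dvd_of_le hPM)
      have h20 : 20 ∣ Nat.card T := Nat.Coprime.mul_dvd_of_dvd_of_dvd (by norm_num : Nat.Coprime 4 5) h4 h5
      have hidx : T.index ∣ 3 := by
        have h6 := T.card_mul_index
        rw [hc60] at h6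
        obtain ⟨c, hc⟩ := h20
        rw [hc, mul_assoc] at h6
        exact ⟨c, by rw [mul_comm]; exact (Nat.eq_of_mul_eq_mul_left (by norm_num : 0 < 20) (h6.trans (by norm_num : (60 : ℕ) = 20 * 3))).symm⟩
      set φ := MulAction.toPermHom A (A ⧸ T)
      rcases hsimp.eq_bot_or_eq_top_of_normal φ.ker inferInstance with h | h
      · have h6 := Subgroup.card_dvd_of_injective φ ((φ.ker_eq_bot_iff).1 h)
        rw [hc60, Nat.card_perm] at h6
        have h7 : (T.index).factorial ∣ (3).factorial := Nat.factorial_dvd_factorial (Nat.le_of_dvd (by norm_num) hidx)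
        exact absurd (h6.trans h7) (by decide)
      · refine hTtop ((Subgroup.eq_top_iff' T).2 fun a => ?_)
        have h6 : φ a = 1 := h.ge (Subgroup.mem_top a)
        have h7 : a • ((1 : A) : A ⧸ T) = ((1 : A) : A ⧸ T) := DFunLike.congr_fun h6 ((1 : A) : A ⧸ T)
        rw [MulAction.Quotient.smul_coe, smul_eq_mul, mul_one, QuotientGroup.eq, mul_one] at h7
        simpa using h7

/-- `Uniq` for the model decides the general case. -/
theorem uniq_iff (n : ℕ) (hn : 5 ≤ n) :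
    (∀ R : Sylow 2 (alternatingGroup (Fin n)), Uniq (R : Subgroup (alternatingGroup (Fin n))) ↔ ∃ k, 2 ≤ k ∧ n = 2 ^ k + 1) ∧
    (∀ R : Sylow 2 (Perm (Fin n)), Uniq (R : Subgroup (Perm (Fin n))) ↔ ∃ k, 2 ≤ k ∧ n = 2 ^ k + 1) := by
  obtain ⟨P₀⟩ : Nonempty (Sylow 2 (Perm (Fin (n / 2)))) := inferInstance
  obtain ⟨Q, hQ⟩ := exists_pairs_sylow (Nat.mod_lt n two_pos) P₀
  obtain ⟨ε⟩ : Nonempty (Fin n ≃ Fin (n / 2) × Bool ⊕ Fin (n % 2)) := Fintype.card_eq.1 (by simp; omega)
  set A := alternatingGroup (Fin (n / 2) × Bool ⊕ Fin (n % 2)) with hA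
  have hmodel : ((Uniq (Q : Subgroup (Perm (Fin (n / 2) × Bool ⊕ Fin (n % 2)))) ↔ ∃ k, 2 ≤ k ∧ n = 2 ^ k + 1) ∧
      (Uniq ((Q : Subgroup (Perm (Fin (n / 2) × Bool ⊕ Fin (n % 2)))).subgroupOf A) ↔ ∃ k, 2 ≤ k ∧ n = 2 ^ k + 1)) := by
    rw [hA, hQ]
    clear hQ Q ε hA A
    rcases Nat.mod_two_eq_zero_or_one n with h2 | h2
    · have hno : ¬ ∃ k, 2 ≤ k ∧ n = 2 ^ k + 1 := by
        rintro ⟨k, hk, rfl⟩
        obtain ⟨l, rfl⟩ : ∃ l, k = l + 1 := ⟨k - 1, by omega⟩
        rw [pow_succ] at h2; omega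
      have := not_uniq_even (m := n / 2) (by omega) P₀
      rw [h2]
      exact ⟨iff_of_false this.1 hno, iff_of_false this.2 hno⟩
    · rw [h2]
      have hiff : (∃ k, 2 ≤ k ∧ n = 2 ^ k + 1) ↔ ∃ j, n / 2 = 2 ^ j := by
        constructor
        · rintro ⟨k, hk, rfl⟩
          obtain ⟨l, rfl⟩ : ∃ l, k = l + 1 := ⟨k - 1, by omega⟩
          exact ⟨l, by rw [pow_succ]; omega⟩
        · rintro ⟨j, hj⟩
          refine ⟨j + 1, ?_, by rw [pow_succ]; omega⟩
          rcases j with _ | j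
          · simp at hj; omega
          · omega
      by_cases hj : ∃ j, n / 2 = 2 ^ j
      · have := uniq_odd (m := n / 2) (by omega) hj P₀
        exact ⟨iff_of_true this.1 (hiff.2 hj), iff_of_true this.2 (hiff.2 hj)⟩
      · have := not_uniq_odd (m := n / 2) (by omega) hj P₀
        exact ⟨iff_of_false this.1 (mt hiff.1 hj), iff_of_false this.2 (mt hiff.1 hj)⟩
  refine ⟨fun R => ?_, fun R => ?_⟩
  · rw [← uniq_map ε.altCongrHom, ← hmodel.2]
    set R' : Subgroup A := (R : Subgroup (alternatingGroup (Fin n))).map ε.altCongrHom.toMonoidHom with hR'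
    have hR'p : IsPGroup 2 R' := R.2.map _
    obtain ⟨S, hS⟩ := (hR'p.map A.subtype).exists_le_sylow
    obtain ⟨g, hg⟩ := MulAction.exists_smul_eq (Perm (Fin (n / 2) × Bool ⊕ Fin (n % 2))) Q S
    let c : A ≃* A := MulAut.conjNormal g
    have hle : R' ≤ ((Q : Subgroup (Perm (Fin (n / 2) × Bool ⊕ Fin (n % 2)))).subgroupOf A).map c.toMonoidHom := by
      intro a ha
      have h1 : (a : Perm (Fin (n / 2) × Bool ⊕ Fin (n % 2))) ∈ (S : Subgroup (Perm (Fin (n / 2) × Bool ⊕ Fin (n % 2)))) := hS ⟨a, ha, rfl⟩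
      rw [← hg, Sylow.coe_subgroup_smul] at h1
      obtain ⟨q, hq, hqa⟩ := h1
      simp only [MulDistribMulAction.toMonoidEnd_apply, MulDistribMulAction.toMonoidHom_apply, MulAut.smul_def,
        MulAut.conj_apply] at hqa
      refine ⟨⟨g⁻¹ * (a : Perm _) * g, by simpa using (inferInstance : A.Normal).conj_mem _ a.2 g⁻¹⟩, ?_, ?_⟩
      · show g⁻¹ * (a : Perm _) * g ∈ (Q : Subgroup (Perm (Fin (n / 2) × Bool ⊕ Fin (n % 2))))
        rw [← hqa, show g⁻¹ * (g * q * g⁻¹) * g = q by group]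
        exact hq
      · apply Subtype.ext
        simp [c, mul_assoc]
    have heq : R' = ((Q : Subgroup (Perm (Fin (n / 2) × Bool ⊕ Fin (n % 2)))).subgroupOf A).map c.toMonoidHom := by
      refine Subgroup.eq_of_le_of_card_ge hle ?_
      have hp : IsPGroup 2 (((Q : Subgroup (Perm (Fin (n / 2) × Bool ⊕ Fin (n % 2)))).subgroupOf A).map c.toMonoidHom) :=
        (Q.2.comap_of_injective A.subtype A.subtype_injective).map _
      obtain ⟨a, ha⟩ := hp.exists_card_eq
      rw [ha, hR', Subgroup.card_map_of_injective ε.altCongrHom.injective, R.card_eq_multiplicity,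
        Nat.card_congr ε.altCongrHom.toEquiv]
      refine Nat.pow_le_pow_right two_pos ?_
      refine (Nat.prime_two.pow_dvd_iff_le_factorization Nat.card_pos.ne').1 (ha ▸ ?_)
      exact Subgroup.card_subgroup_dvd_card _
    rw [heq, uniq_map]
  · rw [← uniq_map ε.permCongrHom, ← hmodel.1]
    obtain ⟨S, hS⟩ := (R.2.map ε.permCongrHom.toMonoidHom).exists_le_sylow
    obtain ⟨g, hg⟩ := MulAction.exists_smul_eq (Perm (Fin (n / 2) × Bool ⊕ Fin (n % 2))) Q S
    have heq : (R : Subgroup (Perm (Fin n))).map ε.permCongrHom.toMonoidHom = (Q : Subgroup (Perm (Fin (n / 2) × Bool ⊕ Fin (n % 2)))).map (MulAut.conj g).toMonoidHom := by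
      refine (Subgroup.eq_of_le_of_card_ge hS (le_of_eq ?_)).trans ?_
      · rw [Subgroup.card_map_of_injective ε.permCongrHom.injective, R.card_eq_multiplicity, S.card_eq_multiplicity,
          Nat.card_congr ε.permCongrHom.toEquiv]
      · rw [← hg, Sylow.coe_subgroup_smul]; rfl
    rw [heq, uniq_map]

end CfsgLib.AltSylowTwo
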